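import Groth.Prelude.Def_W4c3degenlocivbPfaff
import Mathlib

/-!
Sub-maximal Pfaffians of a pencil of skew matrices.
-/

set_option autoImplicit false
universe u

namespace Pf52

open MvPolynomial W4c3degenlocivb

theorem map_pf {R S : Type*} [CommRing R] [CommRing S] (f : R →+* S) :
    ∀ (n : ℕ) (T : Matrix (Fin n) (Fin n) R), f (pf n T) = pf n (T.map f)
  | 0, T => by simp [pf]
  | 1, T => by simp [pf]
  | n + 2, T => by
    simp only [pf, map_sum, map_mul, map_pow, map_neg, map_one, map_pf f n, Matrix.map_apply]
    rfl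

theorem isHomogeneous_pf {σ k : Type*} [CommRing k] : ∀ (q : ℕ) (T : Matrix (Fin (2 * q)) (Fin (2 * q)) (MvPolynomial σ k)),
    (∀ a b, (T a b).IsHomogeneous 1) → (pf (2 * q) T).IsHomogeneous q
  | 0, T, _ => by
    simpa [pf] using isHomogeneous_one σ k
  | q + 1, T, hT => by
    show (pf (2 * q + 2) T).IsHomogeneous (q + 1)
    rw [pf]
    refine IsHomogeneous.sum _ _ _ fun j _ => ?_
    have h := ((isHomogeneous_C σ ((-1 : k) ^ ((j : ℕ) + 1))).mul (hT (Fin.last (2 * q + 1)) (Fin.castSucc j))).mul
      (isHomogeneous_pf q (T.submatrix (Fin.castSucc ∘ j.succAbove) (Fin.castSucc ∘ j.succAbove))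
        fun a b => hT _ _)
    simpa [add_comm] using h

/-- Skew tridiagonal matrix with superdiagonal `w`. -/
def chain {R : Type*} [CommRing R] (w : ℕ → R) (a b : ℕ) : R :=
  if b = a + 1 then w a else if a = b + 1 then -w b else 0

theorem pf_chain {R : Type*} [CommRing R] (w : ℕ → R) : ∀ (q : ℕ) (e : ℕ → ℕ), StrictMono e →
    (∀ i < q, e (2 * i + 1) = e (2 * i) + 1) →
    pf (2 * q) (Matrix.of fun a b : Fin (2 * q) => chain w (e a) (e b)) = ∏ i ∈ Finset.range q, w (e (2 * i))
  | 0, e, _, _ => by simp [pf]
  | q + 1, e, he, hpair => by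
    show pf (2 * q + 2) (Matrix.of fun a b : Fin (2 * q + 2) => chain w (e a) (e b)) = _
    rw [pf, Finset.sum_eq_single (Fin.last (2 * q))]
    · have hs : e (2 * q + 1) = e (2 * q) + 1 := hpair q (Nat.lt_succ_self q)
      have ih := pf_chain w q e he (fun i hi => hpair i (by omega))
      simp only [Matrix.submatrix, Fin.succAbove_last, Function.comp_apply, Matrix.of_apply,
        Fin.val_last, Fin.val_castSucc]
      rw [ih, Finset.prod_range_succ, chain, if_neg (by omega), if_pos hs, mul_comm (∏ _ ∈ _, _)]
      congr 1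
      rw [pow_succ, pow_mul]
      simp
    · intro j _ hj
      have hj' : (j : ℕ) < 2 * q := by
        rcases lt_or_eq_of_le (Nat.lt_succ_iff.1 j.isLt) with h | h
        · exact h
        · exact absurd (Fin.ext h) hj
      have h1 := he hj'
      have h2 := he (show 2 * q < 2 * q + 1 by omega)
      simp only [Matrix.of_apply, Fin.val_last, Fin.val_castSucc]
      rw [chain, if_neg (by omega), if_neg (by omega), mul_zero, zero_mul]
    · simp

theorem exists_generic (k : Type u) [Field k] (r : ℕ) :
    ∃ Φ : MvPolynomial (Fin (2 * r + 1) × Fin (2 * r + 1) × Fin 2) k,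
      (∃ c : Fin (2 * r + 1) → Fin (2 * r + 1) → Fin 2 → k, (∀ i j l, c j i l = -c i j l) ∧
        MvPolynomial.eval (fun p => c p.1 p.2.1 p.2.2) Φ ≠ 0) ∧
      ∀ c : Fin (2 * r + 1) → Fin (2 * r + 1) → Fin 2 → k, (∀ i j l, c j i l = -c i j l) →
        MvPolynomial.eval (fun p => c p.1 p.2.1 p.2.2) Φ ≠ 0 →
        Submodule.span k (Set.range fun i : Fin (2 * r + 1) =>
            pf (2 * r) ((Matrix.of fun a b => ∑ l : Fin 2, MvPolynomial.C (c a b l) * MvPolynomial.X l).submatrix i.succAbove i.succAbove)) =
          MvPolynomial.homogeneousSubmodule (Fin 2) k r := by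
  classical
  let U : Matrix (Fin (2 * r + 1)) (Fin (2 * r + 1))
      (MvPolynomial (Fin 2) (MvPolynomial (Fin (2 * r + 1) × Fin (2 * r + 1) × Fin 2) k)) :=
    Matrix.of fun a b => ∑ l : Fin 2, C (X (a, b, l)) * X l
  let ev : Fin (r + 1) → Fin (2 * r + 1) := fun j => ⟨2 * (j : ℕ), by omega⟩
  let ex : Fin (r + 1) → Fin 2 →₀ ℕ := fun j => Finsupp.single 0 (j : ℕ) + Finsupp.single 1 (r - (j : ℕ))
  let G : Matrix (Fin (r + 1)) (Fin (r + 1)) (MvPolynomial (Fin (2 * r + 1) × Fin (2 * r + 1) × Fin 2) k) :=
    Matrix.of fun i j => coeff (ex i) (pf (2 * r) (U.submatrix (ev j).succAbove (ev j).succAbove))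
  let p : (Fin (2 * r + 1) → Fin (2 * r + 1) → Fin 2 → k) → Fin (2 * r + 1) → MvPolynomial (Fin 2) k :=
    fun c i => pf (2 * r) ((Matrix.of fun a b => ∑ l : Fin 2, C (c a b l) * X l).submatrix i.succAbove i.succAbove)
  have hspec : ∀ c : Fin (2 * r + 1) → Fin (2 * r + 1) → Fin 2 → k,
      eval (fun q => c q.1 q.2.1 q.2.2) G.det = (Matrix.of fun i j => coeff (ex i) (p c (ev j))).det := by
    intro c
    rw [RingHom.map_det, RingHom.mapMatrix_apply]
    congr 1
    ext i j
    simp only [Matrix.map_apply, G, Matrix.of_apply, p]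
    rw [← coeff_map, map_pf]
    congr 2
    ext a b
    simp [U, map_sum]
  refine ⟨G.det, ⟨fun a b l => chain (fun m => if m % 2 = (l : ℕ) then (1 : k) else 0) a b, ?_, ?_⟩, ?_⟩
  · intro i j l
    simp only [chain]
    split_ifs <;> first | omega | simp
  · intro h0
    have h0' := (hspec (fun a b l => chain (fun m => if m % 2 = (l : ℕ) then (1 : k) else 0) a b)).symm.trans h0
    have hp : ∀ j : Fin (r + 1),
        p (fun a b l => chain (fun m => if m % 2 = (l : ℕ) then (1 : k) else 0) a b) (ev j) =
          monomial (ex j) 1 := by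
      intro j
      let e : ℕ → ℕ := fun a => if a < 2 * (j : ℕ) then a else a + 1
      have he : StrictMono e := fun a b hab => by simp only [e]; split_ifs <;> omega
      have h := pf_chain (fun m => if m % 2 = 0 then (X 0 : MvPolynomial (Fin 2) k) else X 1) r e he
        (fun i _ => by simp only [e]; split_ifs <;> omega)
      have hm : ((Matrix.of fun a b : Fin (2 * r + 1) => ∑ l : Fin 2,
          C (chain (fun m => if m % 2 = (l : ℕ) then (1 : k) else 0) a b) * (X l : MvPolynomial (Fin 2) k)).submatrix
          (ev j).succAbove (ev j).succAbove) =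
          Matrix.of fun a b : Fin (2 * r) =>
            chain (fun m => if m % 2 = 0 then (X 0 : MvPolynomial (Fin 2) k) else X 1) (e a) (e b) := by
        ext1 a b
        have hva : ∀ a : Fin (2 * r), (((ev j).succAbove a : Fin (2 * r + 1)) : ℕ) = e a := fun a => by
          simp only [Fin.succAbove, Fin.lt_def, Fin.val_castSucc, ev, e]
          split_ifs <;> simp
        simp only [Matrix.submatrix_apply, Matrix.of_apply, hva, Fin.sum_univ_two, chain, Fin.val_zero,
          Fin.val_one]
        split_ifs <;> first | omega | simp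
      simp only [p]
      rw [hm, h]
      have hw : ∀ i, (if e (2 * i) % 2 = 0 then (X 0 : MvPolynomial (Fin 2) k) else X 1) =
          if i < (j : ℕ) then X 0 else X 1 := fun i => by
        simp only [e]
        split_ifs <;> first | rfl | omega
      simp only [hw]
      rw [Finset.prod_ite, Finset.prod_const, Finset.prod_const]
      have h0 : ((Finset.range r).filter fun i => i < (j : ℕ)) = Finset.range (j : ℕ) := by
        ext i; simp; omega
      have h1 : ((Finset.range r).filter fun i => ¬ i < (j : ℕ)) = Finset.Ico (j : ℕ) r := by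
        ext i; simp; omega
      rw [h0, h1, Finset.card_range, Nat.card_Ico, X_pow_eq_monomial, X_pow_eq_monomial, monomial_mul,
        one_mul]
    have : (Matrix.of fun i j => coeff (ex i)
        (p (fun a b l => chain (fun m => if m % 2 = (l : ℕ) then (1 : k) else 0) a b) (ev j))) = 1 := by
      ext i j
      rw [Matrix.of_apply, hp, coeff_monomial, Matrix.one_apply]
      by_cases h : i = j
      · simp [h]
      · rw [if_neg, if_neg h]
        intro h'
        have := DFunLike.congr_fun h' 0
        simp [ex] at this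
        exact h (Fin.ext this.symm)
    rw [this, Matrix.det_one] at h0'
    exact one_ne_zero h0'
  · intro c _ hne
    rw [hspec] at hne
    have hhom : ∀ i, (p c i).IsHomogeneous r := fun i => isHomogeneous_pf r _ fun a b => by
      rw [Matrix.submatrix_apply, Matrix.of_apply]
      refine IsHomogeneous.sum _ _ _ fun l _ => ?_
      simpa using (isHomogeneous_C (Fin 2) (c (i.succAbove a) (i.succAbove b) l)).mul (isHomogeneous_X k l)
    refine le_antisymm (Submodule.span_le.2 ?_) fun g hg => ?_
    · rintro _ ⟨i, rfl⟩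
      exact hhom i
    · obtain ⟨x, hx⟩ := (Matrix.mulVec_surjective_iff_isUnit.2
        ((Matrix.isUnit_iff_isUnit_det _).2 hne.isUnit)) (fun i => coeff (ex i) g)
      have hg' : g = ∑ j, x j • p c (ev j) := by
        ext d
        by_cases hd : d 0 + d 1 = r
        · have hd' : d = ex ⟨d 0, by omega⟩ := by
            ext l; fin_cases l <;> simp [ex]; omega
          rw [hd']
          have := congrFun hx ⟨d 0, by omega⟩
          simp only [Matrix.mulVec, dotProduct, Matrix.of_apply] at this
          rw [← this, coeff_sum]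
          exact Finset.sum_congr rfl fun j _ => by rw [coeff_smul, smul_eq_mul, mul_comm]
        · have hdd : d.degree ≠ r := by
            rw [Finsupp.degree_eq_sum, Fin.sum_univ_two]; exact hd
          have hgh : g.IsHomogeneous r := hg
          rw [hgh.coeff_eq_zero hdd, coeff_sum]
          exact (Finset.sum_eq_zero fun j _ => by rw [coeff_smul, (hhom (ev j)).coeff_eq_zero hdd, smul_zero]).symm
      rw [hg']
      exact sum_mem fun j _ => Submodule.smul_mem _ _ (Submodule.subset_span ⟨ev j, rfl⟩)

end Pf52
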